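import Mathlib

/-! Independence by specialisation, and primes of height one in a polynomial ring. -/

set_option autoImplicit false

namespace Groth.Agent.DiscrFormLib

open MvPolynomial

variable {k : Type*} [Field k]

set_option maxHeartbeats 1000000 in
/-- A family that becomes dominant after a specialisation of parameters is independent over the parameters. -/
theorem eq_zero_of_specialisation [Infinite k] {γ ν ι : Type*} (z : γ → k)
    (y : ι → MvPolynomial (γ ⊕ ν) k)
    (hs : ∀ b : ι → k, ∃ v : ν → k, ∀ i, eval (Sum.elim 0 v) (y i) = b i)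
    (Q : MvPolynomial (γ ⊕ ι) k)
    (hQ : aeval (Sum.elim (fun e => C (z e) + X (Sum.inl e)) y) Q = 0) : Q = 0 := by
  classical
  let sh : MvPolynomial (γ ⊕ ι) k →ₐ[k] MvPolynomial (γ ⊕ ι) k :=
    aeval (Sum.elim (fun e => C (z e) + X (Sum.inl e)) (fun i => X (Sum.inr i)))
  let sh' : MvPolynomial (γ ⊕ ι) k →ₐ[k] MvPolynomial (γ ⊕ ι) k :=
    aeval (Sum.elim (fun e => X (Sum.inl e) - C (z e)) (fun i => X (Sum.inr i)))
  have hinv : sh'.comp sh = AlgHom.id k _ := by
    refine algHom_ext fun i => ?_
    cases i <;> simp [sh, sh', algebraMap_eq]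
  let S := MvPolynomial ν k
  let A := MvPolynomial ι k
  let Y : ι → MvPolynomial γ S := fun i => sumAlgEquiv k γ ν (y i)
  let ψ : MvPolynomial γ A →ₐ[k] MvPolynomial γ S := aevalTower (aeval (R := k) Y) X
  have hcomp : ∀ q, ψ (sumAlgEquiv k γ ι q) = sumAlgEquiv k γ ν (aeval (Sum.elim (fun e => X (Sum.inl e)) y) q) := by
    intro q
    have h : ψ.comp (sumAlgEquiv k γ ι).toAlgHom =
        (sumAlgEquiv k γ ν).toAlgHom.comp (aeval (Sum.elim (fun e => X (Sum.inl e)) y)) := by
      refine algHom_ext fun i => ?_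
      cases i with
      | inl e => simp [ψ]
      | inr i =>
        simp only [AlgHom.comp_apply, AlgEquiv.coe_toAlgHom, sumAlgEquiv_X_inr, ψ, aevalTower_C, aeval_X, Sum.elim_inr]
        exact aeval_X Y i
    exact AlgHom.congr_fun h q
  have hQ' : ψ (sumAlgEquiv k γ ι (sh Q)) = 0 := by
    rw [hcomp, show aeval (Sum.elim (fun e => X (Sum.inl e)) y) (sh Q) =
      aeval (Sum.elim (fun e => C (z e) + X (Sum.inl e)) y) Q from ?_, hQ, map_zero]
    simp only [sh]
    rw [comp_aeval_apply]
    refine congrArg (fun f => aeval f Q) (funext fun i => ?_)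
    cases i <;> simp [algebraMap_eq]
  have h0 : sumAlgEquiv k γ ι (sh Q) = 0 := by
    by_contra hne
    set P := sumAlgEquiv k γ ι (sh Q) with hPdef
    obtain ⟨a, ha⟩ := P.support.exists_minimal (support_nonempty.mpr hne)
    have hc : coeff a (ψ P) = aeval (R := k) (fun i => constantCoeff (Y i)) (coeff a P) := by
      conv_lhs => rw [P.as_sum, map_sum, coeff_sum]
      have hterm : ∀ b, ψ (monomial b (coeff b P)) = monomial b 1 * aeval (R := k) Y (coeff b P) := fun b => by
        simp only [ψ, monomial_eq, C_1, one_mul, map_mul, aevalTower_C, map_finsuppProd, map_pow, aevalTower_X]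
        exact mul_comm _ _
      rw [Finset.sum_eq_single a]
      · rw [hterm, coeff_monomial_mul', if_pos le_rfl, tsub_self, one_mul]
        have := comp_aeval_apply (R := k) Y ({ constantCoeff with commutes' := fun r => by simp [IsScalarTower.algebraMap_apply k S (MvPolynomial γ S)] } : MvPolynomial γ S →ₐ[k] S) (coeff a P)
        exact this
      · intro b hb hba
        rw [hterm, coeff_monomial_mul', if_neg]
        intro hle
        exact hba (le_antisymm hle (ha.2 hb hle))
      · exact fun h => absurd ha.1 h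
    rw [hQ', coeff_zero] at hc
    refine Finsupp.mem_support_iff.mp ha.1 (MvPolynomial.funext fun b => ?_)
    obtain ⟨v, hv⟩ := hs b
    have h2 := congrArg (aeval (R := k) v) hc.symm
    rw [map_zero, comp_aeval_apply] at h2
    rw [map_zero, ← h2, aeval_eq_eval]
    refine congrArg (fun f => eval f (coeff a P)) (funext fun i => ?_)
    rw [← hv i]
    show eval (Sum.elim 0 v) (y i) = aeval v (constantCoeff (sumAlgEquiv k γ ν (y i)))
    generalize y i = q
    induction q using MvPolynomial.induction_on with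
    | C a => simp
    | add p q hp hq => simp [hp, hq]
    | mul_X p i hp => simp only [map_mul, hp]; cases i <;> simp
  have hz : sh Q = 0 := (map_eq_zero_iff _ (AlgEquiv.injective _)).mp h0
  simpa [← AlgHom.comp_apply, hinv] using congrArg sh' hz

/-- A nonzero prime of `R[T]` meeting `R` in zero is principal. -/
theorem exists_prime_eq_span {R : Type*} [CommRing R] [IsDomain R] [UniqueFactorizationMonoid R]
    (P : Ideal (Polynomial R)) [P.IsPrime] (hP0 : P ≠ ⊥) (hR : ∀ r : R, Polynomial.C r ∈ P → r = 0) :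
    ∃ D, Prime D ∧ P = Ideal.span {D} := by
  classical
  have hex : ∃ m, ∃ F ∈ P, F ≠ 0 ∧ F.natDegree = m := by
    obtain ⟨F, hF, hF0⟩ := Submodule.exists_mem_ne_zero_of_ne_bot hP0
    exact ⟨_, F, hF, hF0, rfl⟩
  obtain ⟨F, hF, hF0, hFm⟩ := Nat.find_spec hex
  have hmin : ∀ G ∈ P, G ≠ 0 → F.natDegree ≤ G.natDegree := fun G hG hG0 => by
    rw [hFm]; exact Nat.find_min' hex ⟨G, hG, hG0, rfl⟩
  obtain ⟨f, hf⟩ := UniqueFactorizationMonoid.exists_prime_factors F hF0
  obtain ⟨u, hu⟩ := hf.2
  have hprod : f.prod ∈ P := by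
    rw [← hu] at hF
    exact (Ideal.mul_unit_mem_iff_mem _ u.isUnit).mp hF
  obtain ⟨D, hDf, hD⟩ := (Ideal.IsPrime.multiset_prod_mem_iff_exists_mem inferInstance f).mp hprod
  have hDp : Prime D := hf.1 D hDf
  have hDd : ∀ G ∈ P, G ≠ 0 → D.natDegree ≤ G.natDegree := fun G hG hG0 =>
    (Polynomial.natDegree_le_of_dvd ((Multiset.dvd_prod hDf).trans ⟨u, hu.symm⟩) hF0).trans (hmin G hG hG0)
  have hDpos : 0 < D.natDegree := by
    by_contra h
    obtain ⟨r, hr⟩ := Polynomial.natDegree_eq_zero.mp (by omega : D.natDegree = 0)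
    exact hDp.ne_zero (by rw [← hr, hR r (hr ▸ hD), map_zero])
  refine ⟨D, hDp, le_antisymm (fun Q hQ => ?_) (by rwa [Ideal.span_le, Set.singleton_subset_iff])⟩
  rw [Ideal.mem_span_singleton]
  suffices H : ∀ m, ∀ Q ∈ P, Q.natDegree < m → D ∣ Q from H _ Q hQ (Nat.lt_succ_self _)
  intro m
  induction m with
  | zero => intro Q _ h; omega
  | succ m ih =>
    intro Q hQ hQm
    by_cases hQ0 : Q = 0
    · rw [hQ0]; exact dvd_zero D
    have hle := hDd Q hQ hQ0
    let Q' := Polynomial.C D.leadingCoeff * Q - Polynomial.C Q.leadingCoeff * Polynomial.X ^ (Q.natDegree - D.natDegree) * D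
    have hQ'P : Q' ∈ P := P.sub_mem (P.mul_mem_left _ hQ) (P.mul_mem_left _ hD)
    have hdvd : D ∣ Q' := by
      by_cases h0 : Q' = 0
      · rw [h0]; exact dvd_zero D
      refine ih Q' hQ'P ?_
      have hnd : Q'.natDegree ≤ Q.natDegree := by
        refine Polynomial.natDegree_sub_le_of_le (Polynomial.natDegree_C_mul_le _ _) ?_ |>.trans (max_self _).le
        refine Polynomial.natDegree_mul_le.trans ?_
        have := Polynomial.natDegree_C_mul_X_pow_le Q.leadingCoeff (Q.natDegree - D.natDegree)
        omega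
      have hcoef : Q'.coeff Q.natDegree = 0 := by
        simp only [Q', Polynomial.coeff_sub, Polynomial.coeff_C_mul, mul_assoc,
          Polynomial.coeff_X_pow_mul', if_pos (Nat.sub_le _ _),
          show Q.natDegree - (Q.natDegree - D.natDegree) = D.natDegree by omega]
        rw [← Polynomial.leadingCoeff, ← Polynomial.leadingCoeff]
        ring
      rcases eq_or_lt_of_le hnd with h | h
      · exact absurd (Polynomial.leadingCoeff_eq_zero.mp (by rw [Polynomial.leadingCoeff, h, hcoef])) h0
      · omega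
    have h2 : D ∣ Polynomial.C D.leadingCoeff * Q := by
      have := dvd_add hdvd (dvd_mul_left D (Polynomial.C Q.leadingCoeff * Polynomial.X ^ (Q.natDegree - D.natDegree)))
      simpa [Q'] using this
    refine (hDp.dvd_or_dvd h2).resolve_left fun h => ?_
    have hl : D.leadingCoeff ≠ 0 := Polynomial.leadingCoeff_ne_zero.mpr hDp.ne_zero
    have := Polynomial.natDegree_le_of_dvd h (Polynomial.C_ne_zero.mpr hl)
    rw [Polynomial.natDegree_C] at this
    omega

end Groth.Agent.DiscrFormLib
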