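import Mathlib
import Groth.Prelude.Def_LefPen
import Groth.Agent.FanoGenLib.Lines
import Groth.Agent.DiscrFormLib.Prime

/-! The discriminant of forms: the locus of singular forms is the zero set of one irreducible polynomial. -/

set_option autoImplicit false
universe u

namespace Groth.Agent.DiscrFormLib

open MvPolynomial Groth.Agent.FanoGenLib

variable {k : Type u} [Field k] {n d : ℕ}

/-- A point where the polynomial and all its partial derivatives vanish. -/
def SingAt (G : MvPolynomial (Fin (n + 1)) k) (v : Fin (n + 1) → k) : Prop :=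
  eval v G = 0 ∧ ∀ i, eval v (pderiv i G) = 0

/-- Monomials divisible by `x₀^(d-1)` are these. -/
noncomputable def lowMon (hd : 1 ≤ d) (j : Fin (n + 1)) : Mon n d :=
  ⟨Finsupp.single 0 (d - 1) + Finsupp.single j 1, by rw [map_add, Finsupp.degree_single, Finsupp.degree_single]; omega⟩

/-- The remaining monomials. -/
abbrev High (n d : ℕ) : Type := {e : Mon n d // e.1 0 + 2 ≤ d}

lemma mon_cases (hd : 2 ≤ d) (e : Mon n d) : e.1 0 + 2 ≤ d ∨ ∃ j, e = lowMon (by omega) j := by
  classical
  by_cases h : e.1 0 + 2 ≤ d
  · exact Or.inl h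
  refine Or.inr ?_
  have hsum : e.1 0 + ∑ i : Fin n, e.1 i.succ = d := by
    rw [← Fin.sum_univ_succ (f := fun i => e.1 i), ← Finsupp.degree_eq_sum, e.2]
  by_cases hall : ∀ i : Fin n, e.1 i.succ = 0
  · refine ⟨0, Subtype.ext (Finsupp.ext fun j => ?_)⟩
    rw [Finset.sum_eq_zero fun i _ => hall i, add_zero] at hsum
    refine Fin.cases ?_ (fun i => ?_) j
    · simp [lowMon, hsum]; omega
    · simp [lowMon, hall i, Fin.succ_ne_zero]
  · push Not at hall
    obtain ⟨i, hi⟩ := hall
    refine ⟨i.succ, Subtype.ext (Finsupp.ext fun j => ?_)⟩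
    rw [← Finset.add_sum_erase _ _ (Finset.mem_univ i)] at hsum
    have hrest : ∀ i' : Fin n, i' ≠ i → e.1 i'.succ = 0 := fun i' hi' => by
      have := Finset.single_le_sum (f := fun x : Fin n => e.1 x.succ) (fun _ _ => Nat.zero_le _)
        (Finset.mem_erase.mpr ⟨hi', Finset.mem_univ i'⟩)
      omega
    refine Fin.cases ?_ (fun i' => ?_) j
    · simp [lowMon, Fin.succ_ne_zero]; omega
    · by_cases hi' : i' = i
      · subst hi'; simp [lowMon, Fin.succ_ne_zero]; omega
      · simp [lowMon, Fin.succ_ne_zero, hrest i' hi', Ne.symm hi']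

lemma lowMon_not_high (hd : 2 ≤ d) (j : Fin (n + 1)) : ¬ (lowMon (n := n) (d := d) (by omega) j).1 0 + 2 ≤ d := by
  simp [lowMon]; omega

/-- The parameters: the high coefficients and the singular point in the chart `x₀ = 1`. -/
abbrev Prm (k : Type u) [Field k] (n d : ℕ) : Type u := MvPolynomial (High n d ⊕ Fin n) k

variable (z : High n d → k)

/-- The tautological point. -/
noncomputable def vp : Fin (n + 1) → Prm k n d := Fin.cases 1 fun i => X (Sum.inr i)

/-- The high part. -/
noncomputable def hiPart : MvPolynomial (Fin (n + 1)) (Prm k n d) :=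
  ∑ e : High n d, monomial e.1.1 (C (z e) + X (Sum.inl e))

/-- The low coefficients making the point singular. -/
noncomputable def lowCoef : Fin (n + 1) → Prm k n d :=
  Fin.cases (-eval vp (hiPart z) + ∑ i : Fin n, X (Sum.inr i) * eval vp (pderiv i.succ (hiPart z)))
    fun i => -eval vp (pderiv i.succ (hiPart z))

/-- The generic singular form. -/
noncomputable def gen (hd : 1 ≤ d) : MvPolynomial (Fin (n + 1)) (Prm k n d) :=
  hiPart z + ∑ j, monomial (lowMon hd j).1 (lowCoef z j)

/-- Its coefficients. -/
noncomputable def par (hd : 1 ≤ d) (e : Mon n d) : Prm k n d := coeff e.1 (gen z hd)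

lemma eval_lowMonomial {R : Type*} [CommRing R] (hd : 1 ≤ d) (w : Fin (n + 1) → R) (hw : w 0 = 1) (a : R)
    (j : Fin (n + 1)) : eval w (monomial (lowMon (n := n) hd j).1 a) = a * w j := by
  classical
  rw [eval_monomial]
  congr 1
  simp only [lowMon]
  rw [Finsupp.prod_add_index' (by simp) (by intros; rw [pow_add]), Finsupp.prod_single_index (by simp),
    Finsupp.prod_single_index (by simp), hw, one_pow, one_mul, pow_one]

lemma pderiv_lowMonomial {R : Type*} [CommRing R] (hd : 1 ≤ d) (w : Fin (n + 1) → R) (hw : w 0 = 1) (a : R)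
    (j : Fin (n + 1)) (i : Fin n) :
    eval w (pderiv i.succ (monomial (lowMon (n := n) hd j).1 a)) = if j = i.succ then a else 0 := by
  classical
  have : (monomial (lowMon (n := n) hd j).1 a : MvPolynomial (Fin (n + 1)) R) = C a * (X 0 ^ (d - 1) * X j) := by
    simp only [lowMon, X_pow_eq_monomial]
    simp only [X, monomial_mul, monomial_pow, C_mul_monomial, mul_one, one_pow, Finsupp.smul_single', mul_one]
  rw [this, pderiv_C_mul, map_mul, eval_C, pderiv_mul, pderiv_pow, pderiv_X_of_ne (Fin.succ_ne_zero i).symm, pderiv_X]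
  simp [Pi.single_apply, hw, eq_comm]
  split_ifs <;> simp [hw]

lemma gen_singular (hd : 1 ≤ d) : eval vp (gen z hd) = 0 ∧ ∀ i : Fin n, eval vp (pderiv i.succ (gen z hd)) = 0 := by
  classical
  constructor
  · simp only [gen, map_add, map_sum, eval_lowMonomial hd (vp (k := k) (n := n) (d := d)) rfl]
    rw [Fin.sum_univ_succ]
    simp only [lowCoef, vp, Fin.cases_zero, Fin.cases_succ, mul_one, neg_mul, Finset.sum_neg_distrib]
    simp only [mul_comm (eval _ (pderiv _ (hiPart z)))]
    ring
  · intro i
    simp only [gen, map_add, map_sum, pderiv_lowMonomial hd (vp (k := k) (n := n) (d := d)) rfl]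
    rw [Finset.sum_ite_eq' Finset.univ i.succ]
    simp [lowCoef]

lemma gen_homogeneous (hd : 1 ≤ d) : (gen z hd).IsHomogeneous d :=
  (IsHomogeneous.sum _ _ _ fun e _ => isHomogeneous_monomial _ e.1.2).add
    (IsHomogeneous.sum _ _ _ fun j _ => isHomogeneous_monomial _ (lowMon hd j).2)

lemma par_high (hd : 2 ≤ d) (e : High n d) : par z (by omega) e.1 = C (z e) + X (Sum.inl e) := by
  classical
  simp only [par, gen, hiPart, coeff_add, coeff_sum, coeff_monomial]
  rw [Finset.sum_eq_single e (fun b _ hb => if_neg fun h => hb (Subtype.ext (Subtype.ext h)))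
      (fun h => absurd (Finset.mem_univ e) h), if_pos rfl,
    Finset.sum_eq_zero fun j _ => if_neg fun h => lowMon_not_high hd j (by rw [Subtype.ext h]; exact e.2), add_zero]

lemma lowMon_injective (hd : 2 ≤ d) : Function.Injective (lowMon (n := n) (d := d) (by omega)) := by
  intro i j h
  have := add_left_cancel (congrArg Subtype.val h)
  exact Finsupp.single_left_injective one_ne_zero this

lemma par_low (hd : 2 ≤ d) (j : Fin (n + 1)) : par z (by omega) (lowMon (by omega) j) = lowCoef z j := by
  classical
  simp only [par, gen, hiPart, coeff_add, coeff_sum, coeff_monomial]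
  rw [Finset.sum_eq_zero fun (e : High n d) _ => if_neg fun h => lowMon_not_high hd j (by rw [← Subtype.ext h]; exact e.2),
    Finset.sum_eq_single j (fun b _ hb => if_neg fun h => hb (lowMon_injective hd (Subtype.ext h)))
      (fun h => absurd (Finset.mem_univ j) h), if_pos rfl, zero_add]

lemma eval_map_of_comp {σ τ : Type*} (c : τ → k) (w : σ → MvPolynomial τ k) (q : MvPolynomial σ (MvPolynomial τ k)) :
    eval c (eval w q) = eval (fun i => eval c (w i)) (map (eval c) q) := by
  induction q using MvPolynomial.induction_on with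
  | C a => simp
  | add p q hp hq => simp [hp, hq]
  | mul_X p i hp => simp [hp]

/-- Every form singular at a point with `v₀ = 1` is a value of the generic singular form. -/
theorem exists_param_of_singAt (hd : 2 ≤ d) (G : LefPen.Form n k d) (v : Fin (n + 1) → k) (hv : v 0 = 1)
    (hG : SingAt G.1 v) : ∃ c, ∀ e, eval c (par z (by omega) e) = coords G e := by
  classical
  let c : High n d ⊕ Fin n → k := Sum.elim (fun e => coords G e.1 - z e) (fun i => v i.succ)
  have hvp : (fun i => eval c (vp (k := k) (d := d) i)) = v := by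
    funext i
    refine Fin.cases ?_ (fun i => ?_) i
    · simp [vp, hv]
    · simp [vp, c]
  set D := map (eval c) (gen z (by omega : 1 ≤ d)) - G.1 with hD
  have hDh : D.IsHomogeneous d := ((gen_homogeneous z _).map _).sub ((mem_homogeneousSubmodule d _).mp G.2)
  let a : Fin (n + 1) → k := fun j => coeff (lowMon (n := n) (d := d) (by omega) j).1 D
  have hDsum : D = ∑ j, monomial (lowMon (n := n) (d := d) (by omega) j).1 (a j) := by
    ext e
    rw [coeff_sum]
    simp only [coeff_monomial]
    by_cases he : e.degree = d
    · rcases mon_cases hd ⟨e, he⟩ with h | ⟨j, hj⟩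
      · rw [Finset.sum_eq_zero fun j _ => if_neg fun hje => lowMon_not_high hd j (by rw [hje]; exact h)]
        have h2 := par_high z hd ⟨⟨e, he⟩, h⟩
        simp only [par] at h2
        simp [hD, coeff_map, h2, c, coords]
      · have hje : (lowMon (n := n) (d := d) (by omega) j).1 = e := (congrArg Subtype.val hj).symm
        rw [Finset.sum_eq_single j (fun b _ hb => if_neg fun h => hb (lowMon_injective hd (Subtype.ext (h.trans hje.symm))))
          (fun h => absurd (Finset.mem_univ j) h), if_pos hje]
        simp only [a, hje]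
    · rw [hDh.coeff_eq_zero he, Finset.sum_eq_zero]
      intro j _
      rw [if_neg]
      intro h
      exact he (h ▸ (lowMon (n := n) (d := d) (by omega) j).2)
  have hsing := gen_singular z (n := n) (d := d) (by omega)
  have h0 : eval v D = 0 := by
    rw [hD, map_sub, hG.1, ← hvp, ← eval_map_of_comp, hsing.1]
    simp
  have hi : ∀ i : Fin n, a i.succ = 0 := fun i => by
    have h1 : eval v (pderiv i.succ D) = 0 := by
      rw [hD, map_sub, map_sub, hG.2, pderiv_map, ← hvp, ← eval_map_of_comp, hsing.2 i]
      simp
    rw [hDsum, map_sum, map_sum] at h1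
    simp only [pderiv_lowMonomial _ v hv] at h1
    simpa using h1
  have ha0 : a 0 = 0 := by
    rw [hDsum, map_sum] at h0
    simp only [eval_lowMonomial _ v hv] at h0
    rw [Fin.sum_univ_succ] at h0
    simpa [hi, hv] using h0
  have : D = 0 := by
    rw [hDsum]
    refine Finset.sum_eq_zero fun j _ => ?_
    have : a j = 0 := Fin.cases ha0 hi j
    rw [this, monomial_zero]
  refine ⟨c, fun e => ?_⟩
  have hmapG : map (eval c) (gen z (by omega : 1 ≤ d)) = G.1 := sub_eq_zero.mp (hD.symm.trans this)
  rw [coords, par, ← coeff_map, hmapG]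

/-- A value of the generic singular form is singular at the tautological point. -/
theorem singAt_of_param (hd : 2 ≤ d) (G : LefPen.Form n k d) (c : High n d ⊕ Fin n → k)
    (h : ∀ e, eval c (par z (by omega) e) = coords G e) : ∃ v, v ≠ 0 ∧ SingAt G.1 v := by
  classical
  have hG : map (eval c) (gen z (by omega : 1 ≤ d)) = G.1 := by
    ext e
    by_cases he : e.degree = d
    · rw [coeff_map]; exact h ⟨e, he⟩
    · rw [((gen_homogeneous z _).map _).coeff_eq_zero he, ((mem_homogeneousSubmodule d _).mp G.2).coeff_eq_zero he]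
  let v : Fin (n + 1) → k := fun i => eval c (vp (k := k) (d := d) i)
  have hv0 : v 0 = 1 := by simp [v, vp]
  have hsing := gen_singular z (n := n) (d := d) (by omega)
  have e0 : eval v G.1 = 0 := by rw [← hG, ← eval_map_of_comp, hsing.1, map_zero]
  have ei : ∀ i : Fin n, eval v (pderiv i.succ G.1) = 0 := fun i => by
    rw [← hG, pderiv_map, ← eval_map_of_comp, hsing.2 i, map_zero]
  refine ⟨v, fun h0 => one_ne_zero (hv0.symm.trans (congrFun h0 0)), e0, Fin.cases ?_ ei⟩
  have hE := congrArg (eval v) ((mem_homogeneousSubmodule d _).mp G.2).sum_X_mul_pderiv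
  rw [map_sum, Fin.sum_univ_succ, map_nsmul, e0, smul_zero] at hE
  simpa [hv0, ei] using hE

/-- The forms singular somewhere form the closure of those singular in the chart: vanishing passes to all of them. -/
theorem eval_eq_zero_of_singAt [Infinite k] (hd : 2 ≤ d) (f : MvPolynomial (Mon n d) k)
    (hf : aeval (par z (by omega : 1 ≤ d)) f = 0) (G : LefPen.Form n k d) (v : Fin (n + 1) → k) (hv : v ≠ 0)
    (hG : SingAt G.1 v) : eval (coords G) f = 0 := by
  classical
  have chart : ∀ (G : LefPen.Form n k d) (v : Fin (n + 1) → k), v 0 ≠ 0 → SingAt G.1 v → eval (coords G) f = 0 := by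
    intro G v hv0 hs
    let w : Fin (n + 1) → k := (v 0)⁻¹ • v
    have hhom : ∀ (P : MvPolynomial (Fin (n + 1)) k) (m : ℕ), P.IsHomogeneous m → eval v P = 0 → eval w P = 0 := by
      intro P m hP h0
      have hE : eval w P = (v 0)⁻¹ ^ m * eval v P := by
        rw [eval_eq', eval_eq', Finset.mul_sum]
        refine Finset.sum_congr rfl fun e he => ?_
        have hdeg : e.degree = m := by
          by_contra hne
          exact mem_support_iff.mp he (hP.coeff_eq_zero hne)
        simp only [w, Pi.smul_apply, smul_eq_mul, mul_pow, Finset.prod_mul_distrib]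
        rw [Finset.prod_pow_eq_pow_sum, ← hdeg, Finsupp.degree_eq_sum]
        ring
      rw [hE, h0, mul_zero]
    have hGh := (mem_homogeneousSubmodule d _).mp G.2
    obtain ⟨c, hc⟩ := exists_param_of_singAt z hd G w (by simp [w, hv0])
      ⟨hhom _ _ hGh hs.1, fun i => hhom _ _ hGh.pderiv (hs.2 i)⟩
    have h2 := congrArg (eval c) hf
    rw [map_zero] at h2
    rw [← h2, ← aeval_eq_eval, ← aeval_eq_eval, comp_aeval_apply]
    refine congrArg (fun g => aeval g f) (funext fun e => ?_)
    rw [aeval_eq_eval]; exact (hc e).symm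
  by_cases hv0 : v 0 ≠ 0
  · exact chart G v hv0 hG
  push Not at hv0
  obtain ⟨j, hj⟩ : ∃ j, v j ≠ 0 := Function.ne_iff.mp hv
  have hj0 : j ≠ 0 := fun h => hj (h ▸ hv0)
  let s : Fin (n + 1) → MvPolynomial (Fin (n + 1)) (Polynomial k) := fun i =>
    if i = 0 then X 0 - C (Polynomial.C (v j)⁻¹ * Polynomial.X) * X j else X i
  let Gt : MvPolynomial (Fin (n + 1)) (Polynomial k) := aeval (R := k) s G.1
  let F : Polynomial k := aeval (R := k) (fun e : Mon n d => coeff e.1 Gt) f
  let st : k → Fin (n + 1) → MvPolynomial (Fin (n + 1)) k := fun t i =>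
    if i = 0 then X 0 - C ((v j)⁻¹ * t) * X j else X i
  have hst : ∀ t, map (Polynomial.evalRingHom t) Gt = aeval (R := k) (st t) G.1 := fun t => by
    let φ : MvPolynomial (Fin (n + 1)) (Polynomial k) →ₐ[k] MvPolynomial (Fin (n + 1)) k :=
      mapAlgHom (Polynomial.aeval (R := k) t)
    have hφ : ∀ q, φ q = map (Polynomial.evalRingHom t) q := fun q => rfl
    rw [← hφ]
    show φ (aeval s G.1) = _
    rw [comp_aeval_apply]
    refine congrArg (fun g => aeval g G.1) (funext fun i => ?_)
    rw [hφ]
    simp only [s, st]
    split_ifs <;> simp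
  have hhomt : ∀ t, (aeval (R := k) (st t) G.1).IsHomogeneous d := fun t => by
    have := ((mem_homogeneousSubmodule d _).mp G.2).aeval (n := 1) (st t) fun i => by
      simp only [st]
      split_ifs
      · exact (isHomogeneous_X k 0).sub (isHomogeneous_C_mul_X _ _)
      · exact isHomogeneous_X k i
    rwa [one_mul] at this
  have hF : ∀ t, F.eval t = eval (coords (⟨_, (mem_homogeneousSubmodule d _).mpr (hhomt t)⟩ : LefPen.Form n k d)) f := by
    intro t
    show Polynomial.aeval t (aeval (fun e : Mon n d => coeff e.1 Gt) f) = _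
    rw [comp_aeval_apply, aeval_eq_eval]
    refine congrArg (fun g => eval g f) (funext fun e => ?_)
    show Polynomial.evalRingHom t (coeff e.1 Gt) = _
    rw [← coeff_map, hst]
    rfl
  have hzero : ∀ t, t ≠ 0 → F.eval t = 0 := fun t ht => by
    rw [hF]
    let w : Fin (n + 1) → k := fun i => if i = 0 then t else v i
    refine chart _ w (by simp [w, ht]) ?_
    have hBw : (fun i => eval w (st t i)) = v := funext fun i => by
      simp only [st]
      split_ifs with hi
      · subst hi
        simp [w, hj0, hv0]
        field_simp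
        ring
      · simp [w, hi]
    have hcomp : ∀ P : MvPolynomial (Fin (n + 1)) k, eval w (aeval (R := k) (st t) P) = eval v P := fun P => by
      rw [← aeval_eq_eval, comp_aeval_apply, aeval_eq_eval, ← hBw]
      rfl
    refine ⟨(hcomp _).trans hG.1, fun i => ?_⟩
    have hchain : ∀ P : MvPolynomial (Fin (n + 1)) k, pderiv i (aeval (R := k) (st t) P) =
        ∑ l, aeval (R := k) (st t) (pderiv l P) * pderiv i (st t l) := by
      intro P
      induction P using MvPolynomial.induction_on with
      | C a => simp
      | add p q hp hq => simp only [map_add, hp, hq, add_mul, Finset.sum_add_distrib]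
      | mul_X p m hp =>
        rw [map_mul, aeval_X, pderiv_mul, hp, Finset.sum_mul]
        simp only [pderiv_mul, map_add, map_mul, aeval_X, add_mul, Finset.sum_add_distrib]
        congr 1
        · exact Finset.sum_congr rfl fun l _ => by ring
        · rw [Finset.sum_eq_single m (fun l _ hl => by simp [pderiv_X_of_ne hl.symm])
            (fun h => absurd (Finset.mem_univ m) h)]
          simp
    show eval w (pderiv i (aeval (st t) G.1)) = 0
    rw [hchain, map_sum]
    exact Finset.sum_eq_zero fun l _ => by rw [map_mul, hcomp, hG.2, zero_mul]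
  have hF0 : F = 0 := Polynomial.eq_zero_of_infinite_isRoot F
    ((Set.finite_singleton (0 : k)).infinite_compl.mono fun t ht => hzero t ht)
  have h3 := hF 0
  rw [hF0, Polynomial.eval_zero] at h3
  rw [h3]
  refine congrArg (fun g => eval g f) (funext fun e => ?_)
  show coeff e.1 G.1 = coeff e.1 (aeval (R := k) (st 0) G.1)
  have : st 0 = X := funext fun i => by
    simp only [st]
    split_ifs with h
    · simp [h]
    · rfl
  rw [this, aeval_X_left_apply]

/-- A nonsingular form is separated from the singular ones by a polynomial. -/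
theorem exists_separating [IsAlgClosed k] (G0 : LefPen.Form n k d) (h : ∀ v, v ≠ 0 → ¬ SingAt G0.1 v) :
    ∃ f : MvPolynomial (Mon n d) k, eval (coords G0) f ≠ 0 ∧
      ∀ (G : LefPen.Form n k d) (v : Fin (n + 1) → k), v ≠ 0 → SingAt G.1 v → eval (coords G) f = 0 := by
  classical
  let gens : Option (Fin (n + 1)) → (MvPolynomial (Fin (n + 1)) k →ₗ[k] MvPolynomial (Fin (n + 1)) k) :=
    fun o => o.elim LinearMap.id fun i => (pderiv i).toLinearMap
  let J : Ideal (MvPolynomial (Fin (n + 1)) k) := Ideal.span (Set.range fun o => gens o G0.1)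
  have hmem : ∀ i, (X i : MvPolynomial (Fin (n + 1)) k) ∈ J.radical := fun i => by
    rw [← MvPolynomial.vanishingIdeal_zeroLocus_eq_radical (K := k) J, MvPolynomial.mem_vanishingIdeal_iff]
    intro v hv
    rw [MvPolynomial.mem_zeroLocus_iff] at hv
    by_contra hne
    refine h v (fun h0 => hne (by simp [h0])) ⟨?_, fun l => ?_⟩
    · have := hv _ (Ideal.subset_span ⟨none, rfl⟩)
      simpa [gens, aeval_eq_eval] using this
    · have := hv _ (Ideal.subset_span ⟨some l, rfl⟩)
      simpa [gens, aeval_eq_eval] using this
  choose m hm using hmem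
  let M : ℕ := ∑ i, m i + 1
  have hM : ∀ i, (X i : MvPolynomial (Fin (n + 1)) k) ^ M ∈ J := fun i =>
    J.pow_mem_of_pow_mem (hm i) (by
      have := Finset.single_le_sum (f := m) (fun _ _ => Nat.zero_le _) (Finset.mem_univ i)
      omega)
  have hexp : ∀ i, ∃ a : Option (Fin (n + 1)) → MvPolynomial (Fin (n + 1)) k,
      ∑ o, a o * gens o G0.1 = X i ^ M := fun i => Ideal.mem_span_range_iff_exists_fun.mp (hM i)
  choose a ha using hexp
  let comb : Fin (n + 1) → (MvPolynomial (Fin (n + 1)) k →ₗ[k] MvPolynomial (Fin (n + 1)) k) := fun i =>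
    (homogeneousComponent M).comp (∑ o, (LinearMap.mulLeft k (a i o)).comp (gens o))
  have hc0 : ∀ i, comb i G0.1 = X i ^ M := fun i => by
    simp only [comb, LinearMap.comp_apply, LinearMap.sum_apply, LinearMap.mulLeft_apply, ha]
    exact homogeneousComponent_of_mem ((mem_homogeneousSubmodule M _).mpr (isHomogeneous_X_pow i M)) |>.trans (if_pos rfl)
  have hcv : ∀ (G : MvPolynomial (Fin (n + 1)) k) (v : Fin (n + 1) → k) i,
      G.IsHomogeneous d → SingAt G v → eval v (comb i G) = 0 := by
    intro G v i hGh hs
    let q := ∑ o, a i o * gens o G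
    have hq : ∀ s : k, eval (s • v) q = 0 := fun s => by
      have hsm : ∀ (P : MvPolynomial (Fin (n + 1)) k) (m : ℕ), P.IsHomogeneous m → eval v P = 0 → eval (s • v) P = 0 := by
        intro P m hP h0
        rw [eval_eq'] at h0 ⊢
        rw [← mul_zero (s ^ m), ← h0, Finset.mul_sum]
        refine Finset.sum_congr rfl fun e he => ?_
        have hdeg : e.degree = m := by
          by_contra hne
          exact mem_support_iff.mp he (hP.coeff_eq_zero hne)
        simp only [Pi.smul_apply, smul_eq_mul, mul_pow, Finset.prod_mul_distrib]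
        rw [Finset.prod_pow_eq_pow_sum, ← hdeg, Finsupp.degree_eq_sum]
        ring
      rw [map_sum]
      refine Finset.sum_eq_zero fun o _ => ?_
      rw [map_mul]
      cases o with
      | none => exact mul_eq_zero_of_right _ (hsm _ _ hGh hs.1)
      | some l => exact mul_eq_zero_of_right _ (hsm _ _ hGh.pderiv (hs.2 l))
    let P : Polynomial k := ∑ l ∈ Finset.range (q.totalDegree + 1), Polynomial.C (eval v (homogeneousComponent l q)) * Polynomial.X ^ l
    have hP : P = 0 := Polynomial.funext fun s => by
      rw [Polynomial.eval_zero, ← hq s]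
      conv_rhs => rw [← sum_homogeneousComponent q, map_sum]
      rw [Polynomial.eval_finsetSum]
      refine Finset.sum_congr rfl fun l _ => ?_
      have hl : (homogeneousComponent l q).IsHomogeneous l := homogeneousComponent_isHomogeneous l q
      rw [Polynomial.eval_mul, Polynomial.eval_C, Polynomial.eval_pow, Polynomial.eval_X, eval_eq', eval_eq', Finset.sum_mul]
      refine Finset.sum_congr rfl fun e he => ?_
      have hdeg : e.degree = l := by
        by_contra hne
        exact mem_support_iff.mp he (hl.coeff_eq_zero hne)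
      simp only [Pi.smul_apply, smul_eq_mul, mul_pow, Finset.prod_mul_distrib]
      rw [Finset.prod_pow_eq_pow_sum, ← hdeg, Finsupp.degree_eq_sum]
      ring
    have hcomb : comb i G = homogeneousComponent M q := by
      simp only [comb, q, LinearMap.comp_apply, LinearMap.sum_apply, LinearMap.mulLeft_apply]
    rw [hcomb]
    by_cases hMq : M ∈ Finset.range (q.totalDegree + 1)
    · have h2 := congrArg (fun p : Polynomial k => p.coeff M) hP
      simp only [P, Polynomial.finsetSum_coeff, Polynomial.coeff_C_mul_X_pow, Polynomial.coeff_zero] at h2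
      rwa [Finset.sum_ite_eq, if_pos hMq] at h2
    · rw [homogeneousComponent_eq_zero _ _ (by simpa using hMq), map_zero]
  -- a square matrix, the identity at `G0`, killing the monomial values at a singular point
  let N := (n + 1) * M
  have hpick : ∀ e : Mon n N, ∃ i, M ≤ e.1 i := fun e => by
    by_contra hno
    push Not at hno
    have : e.1.degree < N := by
      rw [Finsupp.degree_eq_sum]
      calc ∑ i, e.1 i < ∑ _i : Fin (n + 1), M := Finset.sum_lt_sum_of_nonempty Finset.univ_nonempty fun i _ => hno i
        _ = N := by simp [N]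
    omega
  choose pick hp using hpick
  let row : Mon n N → (MvPolynomial (Fin (n + 1)) k →ₗ[k] MvPolynomial (Fin (n + 1)) k) := fun e =>
    (LinearMap.mulLeft k (monomial (e.1 - Finsupp.single (pick e) M) 1)).comp (comb (pick e))
  have hrowh : ∀ e G, (row e G).IsHomogeneous N := fun e G => by
    have h1 : (homogeneousComponent M ((∑ o, (LinearMap.mulLeft k (a (pick e) o)).comp (gens o)) G)).IsHomogeneous M :=
      homogeneousComponent_isHomogeneous _ _
    have h2 : (e.1 - Finsupp.single (pick e) M).degree + M = N := by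
      have h3 : e.1 - Finsupp.single (pick e) M + Finsupp.single (pick e) M = e.1 :=
        tsub_add_cancel_of_le (Finsupp.single_le_iff.mpr (hp e))
      have := congrArg Finsupp.degree h3
      rw [map_add, Finsupp.degree_single, e.2] at this
      exact this
    have := (isHomogeneous_monomial (R := k) 1 (rfl : (e.1 - Finsupp.single (pick e) M).degree = _)).mul h1
    rw [h2] at this
    exact this
  let A : Matrix (Mon n N) (Mon n N) (MvPolynomial (Mon n d) k) := fun e e' =>
    ∑ b : Mon n d, C (coeff e'.1 (row e (monomial b.1 1))) * X b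
  have hA : ∀ (G : LefPen.Form n k d) e e', eval (coords G) (A e e') = coeff e'.1 (row e G.1) := fun G e e' => by
    have hGsum : G.1 = ∑ b : Mon n d, coords G b • monomial b.1 (1 : k) := by
      ext x
      rw [coeff_sum]
      simp only [coeff_smul, coeff_monomial, smul_eq_mul, mul_ite, mul_one, mul_zero]
      by_cases hx : x.degree = d
      · rw [Finset.sum_eq_single (⟨x, hx⟩ : Mon n d) (fun b _ hb => if_neg fun h => hb (Subtype.ext h))
          (fun h => absurd (Finset.mem_univ _) h), if_pos rfl]
        rfl
      · rw [((mem_homogeneousSubmodule d _).mp G.2).coeff_eq_zero hx,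
          Finset.sum_eq_zero fun (b : Mon n d) _ => if_neg fun h : b.1 = x => hx (h ▸ b.2)]
    conv_rhs => rw [hGsum, map_sum, coeff_sum]
    simp only [A, map_sum, map_mul, eval_C, eval_X, map_smul, coeff_smul, smul_eq_mul]
    exact Finset.sum_congr rfl fun b _ => mul_comm _ _
  refine ⟨A.det, ?_, fun G v hv hs => ?_⟩
  · rw [RingHom.map_det]
    have : (eval (coords G0)).mapMatrix A = 1 := Matrix.ext fun e e' => by
      rw [RingHom.mapMatrix_apply, Matrix.map_apply, hA, Matrix.one_apply]
      simp only [row, LinearMap.comp_apply, LinearMap.mulLeft_apply, hc0, X_pow_eq_monomial, monomial_mul, mul_one,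
        tsub_add_cancel_of_le (Finsupp.single_le_iff.mpr (hp e)), coeff_monomial]
      exact if_congr ⟨fun h => Subtype.ext h, fun h => congrArg Subtype.val h⟩ rfl rfl
    rw [this, Matrix.det_one]
    exact one_ne_zero
  · rw [RingHom.map_det]
    let u : Mon n N → k := fun e => ∏ i, v i ^ e.1 i
    refine Matrix.exists_mulVec_eq_zero_iff.mp ⟨u, fun h0 => ?_, funext fun e => ?_⟩
    · obtain ⟨j, hj⟩ := Function.ne_iff.mp hv
      have := congrFun h0 ⟨Finsupp.single j N, by simp [Finsupp.degree_single]⟩
      simp only [u, Pi.zero_apply] at this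
      rw [Finset.prod_eq_single j (fun b _ hb => by simp [Finsupp.single_eq_of_ne hb])
        (fun h => absurd (Finset.mem_univ j) h), Finsupp.single_eq_same] at this
      exact hj (eq_zero_of_pow_eq_zero this)
    · simp only [Matrix.mulVec, dotProduct, RingHom.mapMatrix_apply, Matrix.map_apply, hA, Pi.zero_apply, u]
      have h1 : eval v (row e G.1) = 0 := by
        simp only [row, LinearMap.comp_apply, LinearMap.mulLeft_apply, map_mul,
          hcv G.1 v _ ((mem_homogeneousSubmodule d _).mp G.2) hs, mul_zero]
      have h2 : row e G.1 = ∑ e' : Mon n N, monomial e'.1 (coeff e'.1 (row e G.1)) := by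
        ext x
        rw [coeff_sum]
        simp only [coeff_monomial]
        by_cases hx : x.degree = N
        · rw [Finset.sum_eq_single (⟨x, hx⟩ : Mon n N) (fun b _ hb => if_neg fun h => hb (Subtype.ext h))
            (fun h => absurd (Finset.mem_univ _) h), if_pos rfl]
        · rw [(hrowh e G.1).coeff_eq_zero hx,
            Finset.sum_eq_zero fun (b : Mon n N) _ => if_neg fun h : b.1 = x => hx (h ▸ b.2)]
      rw [h2, map_sum] at h1
      simp only [eval_monomial, Finsupp.prod_fintype _ _ (fun i => pow_zero _)] at h1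
      exact h1

end Groth.Agent.DiscrFormLib
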